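import Cfsg.Prelude.Def_Balance
import Cfsg.Agent.Lib.Coprime.Generation
import Cfsg.Agent.Lib.Coprime.Sylow
import Cfsg.Agent.Lib.Components.Constrained

/-!
Signalizer functors: the family of a functor, elementary closure properties.
-/

set_option autoImplicit false
set_option linter.style.haveILetI false
set_option linter.unusedSectionVars false

namespace CfsgLib.Components.Signalizer

open Subgroup

variable {G : Type*} [Group G] [Finite G] {p : ℕ} [hp : Fact p.Prime] {A : Subgroup G}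

theorem isPGroup_of_elementary (hA : Cfsg.IsElementaryAbelian p A) : IsPGroup p A :=
  fun a => ⟨1, Subtype.ext (by simpa using hA.2 a a.2)⟩

theorem coprime_card (hA : Cfsg.IsElementaryAbelian p A) {X : Subgroup G}
    (hX : ¬ p ∣ Nat.card X) : (Nat.card A).Coprime (Nat.card X) :=
  coprime_card_of_isPGroup (isPGroup_of_elementary hA) (hp.out.coprime_iff_not_dvd.mpr hX).symm

theorem not_dvd_of_le {X Y : Subgroup G} (h : X ≤ Y) (hY : ¬ p ∣ Nat.card Y) :
    ¬ p ∣ Nat.card X :=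
  fun hd => hY (hd.trans (card_dvd_of_le h))

theorem isMulCommutative_of_le {B : Subgroup G} (hA : Cfsg.IsElementaryAbelian p A) (h : B ≤ A) :
    IsMulCommutative B :=
  ⟨⟨fun a b => Subtype.ext
    (congrArg Subtype.val (hA.1.is_comm.comm (⟨a, h a.2⟩ : A) ⟨b, h b.2⟩) : (a : G) * b = b * a)⟩⟩

theorem elementary_of_le {B : Subgroup G} (hA : Cfsg.IsElementaryAbelian p A) (h : B ≤ A) :
    Cfsg.IsElementaryAbelian p B :=
  ⟨isMulCommutative_of_le hA h, fun b hb => hA.2 b (h hb)⟩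

theorem commute_of_mem (hA : Cfsg.IsElementaryAbelian p A) {a b : G} (ha : a ∈ A) (hb : b ∈ A) :
    a * b = b * a :=
  congrArg Subtype.val (hA.1.is_comm.comm (⟨a, ha⟩ : A) ⟨b, hb⟩)

theorem le_centralizer_singleton (hA : Cfsg.IsElementaryAbelian p A) {a : G} (ha : a ∈ A) :
    A ≤ centralizer {a} := fun _ hb =>
  mem_centralizer_singleton_iff.mpr (commute_of_mem hA hb ha)

theorem le_normalizer_inf_centralizer (hA : Cfsg.IsElementaryAbelian p A) {X : Subgroup G}
    (hX : A ≤ normalizer (X : Set G)) {B : Subgroup G} (hB : B ≤ A) :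
    A ≤ normalizer ((X ⊓ centralizer (B : Set G) : Subgroup G) : Set G) :=
  (le_inf hX ((show A ≤ centralizer (B : Set G) from fun a ha =>
    mem_centralizer_iff.mpr fun b hb => commute_of_mem hA (hB hb) ha).trans le_normalizer)).trans
    inf_normalizer_le_normalizer_inf

theorem le_normalizer_inf_centralizer_singleton (hA : Cfsg.IsElementaryAbelian p A)
    {X : Subgroup G} (hX : A ≤ normalizer (X : Set G)) {a : G} (ha : a ∈ A) :
    A ≤ normalizer ((X ⊓ centralizer {a} : Subgroup G) : Set G) :=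
  (le_inf hX ((le_centralizer_singleton hA ha).trans le_normalizer)).trans
    inf_normalizer_le_normalizer_inf

theorem isSolvable_sup {X Y : Subgroup G} (hn : Y ≤ normalizer (X : Set G))
    (hX : Group.IsSolvable X) (hY : Group.IsSolvable Y) : Group.IsSolvable ↥(X ⊔ Y) := by
  haveI := hX
  haveI := hY
  haveI hN : (X.subgroupOf (X ⊔ Y)).Normal :=
    (normal_subgroupOf_iff_le_normalizer le_sup_left).mpr (sup_le Subgroup.le_normalizer hn)
  let f : Y →* ↥(X ⊔ Y) ⧸ X.subgroupOf (X ⊔ Y) :=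
    (QuotientGroup.mk' _).comp (inclusion le_sup_right)
  have hf : Function.Surjective f := by
    intro z
    obtain ⟨⟨w, hw⟩, rfl⟩ := QuotientGroup.mk_surjective z
    obtain ⟨x, hx, y, hy, rfl⟩ := (Coprime.mem_sup_of_le_normalizer hn).mp hw
    refine ⟨⟨y, hy⟩, QuotientGroup.eq.mpr ?_⟩
    rw [mem_subgroupOf]
    have := mem_normalizer_iff.mp (hn (inv_mem hy)) x
    simpa [mul_assoc] using this.mp hx
  haveI := Group.isSolvable_of_surjective hf
  haveI : Group.IsSolvable ↥(X.subgroupOf (X ⊔ Y)) :=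
    Group.isSolvable_of_isSolvable_injective
      (f := (subgroupOfEquivOfLe (le_sup_left : X ≤ X ⊔ Y)).toMonoidHom)
      (subgroupOfEquivOfLe (le_sup_left : X ≤ X ⊔ Y)).injective
  refine Group.isSolvable_of_ker_le_range (X.subgroupOf (X ⊔ Y)).subtype
    (QuotientGroup.mk' (X.subgroupOf (X ⊔ Y))) ?_
  rw [QuotientGroup.ker_mk', range_subtype]

theorem card_sup_dvd_mul {X Y : Subgroup G} (hn : Y ≤ normalizer (X : Set G)) :
    Nat.card ↥(X ⊔ Y) ∣ Nat.card X * Nat.card Y := by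
  haveI : (X.subgroupOf (X ⊔ Y)).Normal :=
    (normal_subgroupOf_iff_le_normalizer le_sup_left).mpr (sup_le Subgroup.le_normalizer hn)
  have h := Solvable.Basic.card_sup_mul (X.subgroupOf (X ⊔ Y)) (Y.subgroupOf (X ⊔ Y))
  rw [Nat.card_congr (subgroupOfEquivOfLe le_sup_left).toEquiv,
    Nat.card_congr (subgroupOfEquivOfLe le_sup_right).toEquiv,
    sup_comm (Y.subgroupOf (X ⊔ Y)), ← subgroupOf_sup le_sup_left le_sup_right,
    subgroupOf_self, Subgroup.card_top, mul_comm (Nat.card Y)] at h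
  exact Dvd.intro _ h

/-- A subgroup `B` has a hyperplane containing any given proper subgroup. -/
theorem exists_relIndex_eq (hA : Cfsg.IsElementaryAbelian p A) {B : Subgroup G} (hB : B ≤ A)
    (hB1 : B ≠ ⊥) : ∃ D : Subgroup G, D ≤ B ∧ D.relIndex B = p := by
  obtain ⟨n, hn⟩ := ((isPGroup_of_elementary hA).to_le hB).exists_card_eq
  have hn0 : n ≠ 0 := by
    rintro rfl
    exact hB1 (card_eq_one.mp (by simpa using hn))
  obtain ⟨D, hD⟩ := Sylow.exists_subgroup_card_pow_prime (G := B) p (n := n - 1)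
    (hn ▸ pow_dvd_pow p (Nat.sub_le n 1))
  refine ⟨D.map B.subtype, map_subtype_le D, ?_⟩
  have h := Coprime.card_mul_relIndex' (map_subtype_le D)
  rw [Coprime.card_map_subtype, hD, hn] at h
  refine Nat.eq_of_mul_eq_mul_left (pow_pos hp.out.pos (n - 1)) ?_
  rw [h, ← pow_succ, Nat.sub_add_cancel (Nat.one_le_iff_ne_zero.mpr hn0)]

/-- Generation by centralisers of subgroups of index at most `p`. -/
theorem le_iSup_centralizer_hyperplanes (hA : Cfsg.IsElementaryAbelian p A) {X B : Subgroup G}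
    (hB : B ≤ A) (hX : ¬ p ∣ Nat.card X) (hAX : A ≤ normalizer (X : Set G)) :
    X ≤ ⨆ D : {D : Subgroup G // D ≤ B ∧ D.relIndex B ≤ p},
      X ⊓ centralizer ((D : Subgroup G) : Set G) := by
  haveI := isMulCommutative_of_le hA hB
  conv_lhs => rw [← Coprime.iSup_centralizer_of_cyclic_quotient (hB.trans hAX)
    (coprime_card (elementary_of_le hA hB) hX)]
  refine iSup₂_le fun D hD => ?_
  obtain ⟨hDB, a, ha, he⟩ := hD
  refine le_iSup (fun D : {D : Subgroup G // D ≤ B ∧ D.relIndex B ≤ p} =>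
    X ⊓ centralizer ((D : Subgroup G) : Set G)) ⟨D, hDB, ?_⟩
  have hn : zpowers a ≤ normalizer (D : Set G) := by
    refine (zpowers_le).mpr (centralizer_le_normalizer _ ?_)
    exact mem_centralizer_iff.mpr fun d hd => commute_of_mem hA (hB (hDB hd)) (hB ha)
  have h := card_sup_dvd_mul hn
  rw [he, ← Coprime.card_mul_relIndex' hDB, Nat.card_zpowers] at h
  refine Nat.le_of_dvd hp.out.pos ((Nat.dvd_of_mul_dvd_mul_left Nat.card_pos h).trans ?_)
  exact orderOf_dvd_of_pow_eq_one (hA.2 a (hB ha))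

/-- Generation by centralisers of the hyperplanes of a nontrivial subgroup of `A`. -/
theorem le_iSup_centralizer_relIndex (hA : Cfsg.IsElementaryAbelian p A) {X B : Subgroup G}
    (hB : B ≤ A) (hB1 : B ≠ ⊥) (hX : ¬ p ∣ Nat.card X) (hAX : A ≤ normalizer (X : Set G)) :
    X ≤ ⨆ D : {D : Subgroup G // D ≤ B ∧ D.relIndex B = p},
      X ⊓ centralizer ((D : Subgroup G) : Set G) := by
  refine (le_iSup_centralizer_hyperplanes hA hB hX hAX).trans (iSup_le fun D => ?_)
  obtain ⟨D, hDB, hDp⟩ := D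
  obtain ⟨k, hk⟩ := ((isPGroup_of_elementary hA).to_le hB).exists_card_eq
  have h : D.relIndex B ∣ p ^ k := hk ▸ Dvd.intro_left _ (Coprime.card_mul_relIndex' hDB)
  obtain ⟨j, -, hj⟩ := (Nat.dvd_prime_pow hp.out).mp h
  have hj1 : j ≤ 1 := by
    by_contra hj2
    push Not at hj2
    have : p ^ j ≤ p ^ 1 := by rw [← hj, pow_one]; exact hDp
    exact absurd ((Nat.pow_le_pow_iff_right hp.out.one_lt).mp this) (by omega)
  rcases Nat.le_one_iff_eq_zero_or_eq_one.mp hj1 with rfl | rfl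
  · obtain ⟨D', hD', hD'p⟩ := exists_relIndex_eq hA hB hB1
    have hDB' : B ≤ D := relIndex_eq_one.mp (by simpa using hj)
    refine le_iSup_of_le ⟨D', hD', hD'p⟩ (inf_le_inf_left _ (centralizer_le ?_))
    exact hD'.trans hDB'
  · exact le_iSup (fun D : {D : Subgroup G // D ≤ B ∧ D.relIndex B = p} =>
      X ⊓ centralizer ((D : Subgroup G) : Set G)) ⟨D, hDB, by simpa using hj⟩

theorem exists_ne_one_of_card {B : Subgroup G} {n : ℕ} (hn : p ^ n ≤ Nat.card B) (hn0 : n ≠ 0) :
    B ≠ ⊥ := by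
  rintro rfl
  rw [Subgroup.card_bot] at hn
  exact absurd hn (not_le.mpr (Nat.one_lt_pow hn0 hp.out.one_lt))

theorem exists_nontrivial_inf {B C : Subgroup G} (hA : Cfsg.IsElementaryAbelian p A)
    (hA3 : p ^ 3 ≤ Nat.card A) (hB : B ≤ A) (hC : C ≤ A) (hBi : B.relIndex A ≤ p)
    (hCi : C.relIndex A ≤ p) : ∃ a ∈ A, a ≠ 1 ∧ a ∈ B ∧ a ∈ C := by
  by_contra hcon
  push Not at hcon
  have hbot : B ⊓ C = ⊥ := by
    rw [eq_bot_iff]
    intro a ha
    by_contra h1
    exact hcon a (hB ha.1) h1 ha.1 ha.2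
  have h1 : Nat.card B ∣ Nat.card B := dvd_rfl
  have hBn : C ≤ normalizer (B : Set G) := fun c hc => centralizer_le_normalizer _
    (mem_centralizer_iff.mpr fun b hb => commute_of_mem hA (hB hb) (hC hc))
  have hcard := Coprime.card_sup_of_le_normalizer hBn (disjoint_iff.mpr hbot)
  have hle : Nat.card ↥(B ⊔ C) ≤ Nat.card A := card_le_of_le (sup_le hB hC)
  have eB := Coprime.card_mul_relIndex' hB
  have eC := Coprime.card_mul_relIndex' hC
  have bB : Nat.card A ≤ Nat.card B * p := eB ▸ Nat.mul_le_mul_left _ hBi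
  have bC : Nat.card A ≤ Nat.card C * p := eC ▸ Nat.mul_le_mul_left _ hCi
  have h2 : Nat.card A * Nat.card A ≤ Nat.card A * (p * p) := by
    calc Nat.card A * Nat.card A ≤ (Nat.card B * p) * (Nat.card C * p) := Nat.mul_le_mul bB bC
      _ = (Nat.card B * Nat.card C) * (p * p) := by ring
      _ ≤ Nat.card A * (p * p) := Nat.mul_le_mul_right _ (hcard ▸ hle)
  have h3 : p ^ 3 ≤ p * p := hA3.trans (Nat.le_of_mul_le_mul_left h2 Nat.card_pos)
  have h4 : p ^ 2 < p ^ 3 := Nat.pow_lt_pow_right hp.out.one_lt (by norm_num)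
  rw [pow_two] at h4
  omega

/-! ### The family of a signalizer functor -/

variable {θ : G → Subgroup G}

theorem le_normalizer_theta (hθ : Cfsg.IsSignalizerFunctor p A θ) {a : G} (ha : a ∈ A)
    (ha1 : a ≠ 1) : A ≤ normalizer (θ a : Set G) :=
  le_normalizer_iff.mpr fun b hb x hx => hθ.2.2.1 a ha ha1 b hb x hx

theorem member_le_normalizer {U : Subgroup G} (hU : U ∈ Cfsg.signalizerFamily p A θ) :
    A ≤ normalizer (U : Set G) :=
  le_normalizer_iff.mpr fun b hb x hx => hU.2.2.1 b hb x hx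

theorem member_mk {U : Subgroup G} (hs : Group.IsSolvable U) (hp' : ¬ p ∣ Nat.card U)
    (hn : A ≤ normalizer (U : Set G))
    (hb : ∀ a ∈ A, a ≠ 1 → U ⊓ centralizer {a} ≤ θ a) : U ∈ Cfsg.signalizerFamily p A θ :=
  ⟨hs, hp', fun b hb' u hu => le_normalizer_iff.mp hn b hb' u hu, hb⟩

theorem theta_member (hθ : Cfsg.IsSolvableSignalizerFunctor p A θ) {a : G} (ha : a ∈ A)
    (ha1 : a ≠ 1) : θ a ∈ Cfsg.signalizerFamily p A θ :=
  member_mk (hθ.2 a ha ha1) (hθ.1.2.1 a ha ha1) (le_normalizer_theta hθ.1 ha ha1)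
    (hθ.1.2.2.2 a ha ha1)

theorem member_of_le {U V : Subgroup G} (hU : U ∈ Cfsg.signalizerFamily p A θ) (hle : V ≤ U)
    (hn : A ≤ normalizer (V : Set G)) : V ∈ Cfsg.signalizerFamily p A θ :=
  member_mk (Coprime.isSolvable_of_le hle hU.1) (not_dvd_of_le hle hU.2.1) hn
    fun a ha ha1 => (inf_le_inf_right _ hle).trans (hU.2.2.2 a ha ha1)

theorem zpowers_inf_eq {U : Subgroup G} {a : G} :
    U ⊓ centralizer ((zpowers a : Subgroup G) : Set G) = U ⊓ centralizer {a} := by
  rw [zpowers_eq_closure, centralizer_closure]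

theorem coprime_zpowers (hA : Cfsg.IsElementaryAbelian p A) {a : G} (ha : a ∈ A)
    {X : Subgroup G} (hX : ¬ p ∣ Nat.card X) : (Nat.card (zpowers a)).Coprime (Nat.card X) :=
  coprime_card (elementary_of_le hA ((zpowers_le).mpr ha)) hX

theorem member_sup (hA : Cfsg.IsElementaryAbelian p A) {X Y : Subgroup G}
    (hX : X ∈ Cfsg.signalizerFamily p A θ) (hY : Y ∈ Cfsg.signalizerFamily p A θ)
    (hn : Y ≤ normalizer (X : Set G)) : X ⊔ Y ∈ Cfsg.signalizerFamily p A θ := by
  refine member_mk (isSolvable_sup hn hX.1 hY.1) ?_ ?_ fun a ha ha1 => ?_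
  · intro hd
    exact (hp.out.dvd_mul.mp (hd.trans (card_sup_dvd_mul hn))).elim hX.2.1 hY.2.1
  · intro b hb
    rw [mem_normalizer_iff_map_conj_eq, Subgroup.map_sup,
      map_conj_le_of_le_normalizer (member_le_normalizer hX hb),
      map_conj_le_of_le_normalizer (member_le_normalizer hY hb)]
  · rintro z ⟨hz, hza⟩
    obtain ⟨x, hx, y, hy, rfl⟩ := (Coprime.mem_sup_of_le_normalizer hn).mp hz
    have hAa : zpowers a ≤ A := (zpowers_le).mpr ha
    obtain ⟨x', hx', y', hy', he⟩ := Coprime.centralizer_of_mul (A := zpowers a)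
      (hAa.trans (member_le_normalizer hX)) (hAa.trans (member_le_normalizer hY))
      (coprime_zpowers hA ha hX.2.1) (.inl (Coprime.isSolvable_zpowers a)) hx hy
      (by rwa [zpowers_eq_closure, centralizer_closure])
    rw [zpowers_inf_eq] at hx' hy'
    rw [he]
    exact mul_mem (hX.2.2.2 a ha ha1 hx') (hY.2.2.2 a ha ha1 hy')

theorem member_inf_centralizer_le {U B : Subgroup G} (hU : U ∈ Cfsg.signalizerFamily p A θ)
    (hB : B ≤ A) : U ⊓ centralizer (B : Set G) ≤ Cfsg.signalizerInf B θ :=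
  le_iInf fun b => (inf_le_inf_left _
    (centralizer_le (Set.singleton_subset_iff.mpr b.2.1))).trans (hU.2.2.2 b (hB b.2.1) b.2.2)

theorem signalizerInf_le {B : Subgroup G} {b : G} (hb : b ∈ B) (hb1 : b ≠ 1) :
    Cfsg.signalizerInf B θ ≤ θ b :=
  iInf_le (fun b : {b : G // b ∈ B ∧ b ≠ 1} => θ (b : G)) ⟨b, hb, hb1⟩

theorem signalizerInf_anti {B C : Subgroup G} (h : B ≤ C) :
    Cfsg.signalizerInf C θ ≤ Cfsg.signalizerInf B θ :=
  le_iInf fun b => signalizerInf_le (h b.2.1) b.2.2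

theorem signalizerInf_member (hθ : Cfsg.IsSolvableSignalizerFunctor p A θ) {B : Subgroup G}
    (hB : B ≤ A) (hB1 : B ≠ ⊥) : Cfsg.signalizerInf B θ ∈ Cfsg.signalizerFamily p A θ := by
  obtain ⟨b, hb, hb1⟩ := B.bot_or_exists_ne_one.resolve_left hB1
  refine member_of_le (theta_member hθ (hB hb) hb1) (signalizerInf_le hb hb1) ?_
  exact le_normalizer_iff.mpr fun a ha x hx => mem_iInf.mpr fun c =>
    hθ.1.2.2.1 c (hB c.2.1) c.2.2 a ha x (mem_iInf.mp hx c)

theorem signalizerInf_le_centralizer (hθ : Cfsg.IsSignalizerFunctor p A θ) {B : Subgroup G}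
    (hB : B ≤ A) : Cfsg.signalizerInf B θ ≤ centralizer (B : Set G) := by
  intro c hc
  refine mem_centralizer_iff.mpr fun b hb => ?_
  by_cases hb1 : b = 1
  · simp [hb1]
  · exact (mem_centralizer_singleton_iff.mp
      (hθ.1 b (hB hb) hb1 (signalizerInf_le hb hb1 hc))).symm

theorem map_conj_member (hθ : Cfsg.IsSignalizerFunctor p A θ) {U : Subgroup G}
    (hU : U ∈ Cfsg.signalizerFamily p A θ) {c : G} (hc : c ∈ Cfsg.signalizerInf A θ) :
    U.map (MulAut.conj c).toMonoidHom ∈ Cfsg.signalizerFamily p A θ := by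
  have hcA : ∀ a ∈ A, a * c = c * a := fun a ha =>
    mem_centralizer_iff.mp (signalizerInf_le_centralizer hθ le_rfl hc) a ha
  refine ⟨?_, ?_, ?_, ?_⟩
  · haveI := hU.1
    exact Group.isSolvable_of_surjective (MonoidHom.subgroupMap_surjective _ U)
  · rw [Coprime.card_conj_map]; exact hU.2.1
  · rintro b hb _ ⟨u, hu, rfl⟩
    refine ⟨b * u * b⁻¹, hU.2.2.1 b hb u hu, ?_⟩
    have h1 : Commute b c := hcA b hb
    simp only [MulEquiv.coe_toMonoidHom, MulAut.conj_apply]
    calc c * (b * u * b⁻¹) * c⁻¹ = c * b * u * (c * b)⁻¹ := by group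
      _ = b * c * u * (b * c)⁻¹ := by rw [h1.eq]
      _ = b * (c * u * c⁻¹) * b⁻¹ := by group
  · rintro a ha ha1 _ ⟨⟨u, hu, rfl⟩, hua⟩
    have hca : c ∈ θ a := signalizerInf_le ha ha1 hc
    have h1 : Commute a c := hcA a ha
    simp only [MulEquiv.coe_toMonoidHom, MulAut.conj_apply] at hua ⊢
    have hua' : u ∈ centralizer {a} := by
      have hc' : c ∈ centralizer {a} := mem_centralizer_singleton_iff.mpr h1.eq.symm
      have := mul_mem (mul_mem (inv_mem hc') hua) hc'
      simpa [mul_assoc] using this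
    exact mul_mem (mul_mem hca (hU.2.2.2 a ha ha1 ⟨hu, hua'⟩)) (inv_mem hca)

/-- A member is generated by its intersections with the `θ(C(D))`, `D` a hyperplane of `B`. -/
theorem member_eq_iSup (hA : Cfsg.IsElementaryAbelian p A) {X B : Subgroup G}
    (hX : X ∈ Cfsg.signalizerFamily p A θ) (hB : B ≤ A) (hB1 : B ≠ ⊥) :
    X = ⨆ D : {D : Subgroup G // D ≤ B ∧ D.relIndex B = p},
      X ⊓ Cfsg.signalizerInf (D : Subgroup G) θ := by
  refine le_antisymm ((le_iSup_centralizer_relIndex hA hB hB1 hX.2.1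
    (member_le_normalizer hX)).trans (iSup_mono fun D => le_inf inf_le_left
      (member_inf_centralizer_le hX (D.2.1.trans hB)))) (iSup_le fun D => inf_le_left)

end CfsgLib.Components.Signalizer
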