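import Cfsg.Agent.Lib.Components.Signalizer.Basic

/-!
Balance of `p'`-cores of centralisers in `p`-constrained centralisers.
-/

set_option autoImplicit false
set_option linter.style.haveILetI false
set_option linter.unusedSectionVars false

namespace CfsgLib.Components.Signalizer

open Subgroup

variable {G : Type*} [Group G] [Finite G] {p : ℕ} [hp : Fact p.Prime]

theorem centralizerPPrimeCore_le (a : G) : Cfsg.centralizerPPrimeCore p a ≤ centralizer {a} :=
  map_subtype_le _

theorem not_dvd_centralizerPPrimeCore (a : G) :
    ¬ p ∣ Nat.card ↥(Cfsg.centralizerPPrimeCore p a) := by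
  rw [Cfsg.centralizerPPrimeCore, card_map_of_injective (subtype_injective _)]
  exact hp.out.coprime_iff_not_dvd.mp (Solvable.Cores.coprime_card_pPrimeCore p).symm

theorem centralizer_le_normalizer_core (a : G) :
    centralizer {a} ≤ normalizer (Cfsg.centralizerPPrimeCore p a : Set G) := fun _ hg =>
  map_subtype_normal_of_characteristic (Subgroup.le_normalizer hg)

/-- If `C_G(b)` is `p`-constrained, then `O_{p'}(C(a)) ∩ C(b) ≤ O_{p'}(C(b))`. -/
theorem core_inf_centralizer_le {a b : G} (hab : a * b = b * a) (ha : orderOf a = p)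
    (hL : Cfsg.pLayer p ↥(centralizer ({b} : Set G)) = ⊥) :
    Cfsg.centralizerPPrimeCore p a ⊓ centralizer {b} ≤ Cfsg.centralizerPPrimeCore p b := by
  set H := centralizer ({b} : Set G) with hH
  let a' : H := ⟨a, mem_centralizer_singleton_iff.mpr hab⟩
  have hP : IsPGroup p ↥(zpowers a') := IsPGroup.of_card (n := 1) (by
    rw [Nat.card_zpowers, pow_one, ← Subgroup.orderOf_coe]; exact ha)
  set N := normalizer ((zpowers a' : Subgroup H) : Set H) with hN
  let f : N →* G := H.subtype.comp N.subtype
  have hf : Function.Injective f := H.subtype_injective.comp N.subtype_injective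
  set D := (Cfsg.centralizerPPrimeCore p a).comap f with hD
  have hDcard : (Nat.card D).Coprime p := by
    refine ((hp.out.coprime_iff_not_dvd.mpr
      (not_dvd_centralizerPPrimeCore (p := p) a)).symm).coprime_dvd_left ?_
    rw [← card_map_of_injective hf]
    exact card_dvd_of_le (map_comap_le _ _)
  haveI hDn : D.Normal := by
    refine ⟨fun d hd n => ?_⟩
    have hn : (f n) ∈ normalizer ((centralizer ({a} : Set G) : Subgroup G) : Set G) := by
      have h1 : f n ∈ normalizer ((zpowers a : Subgroup G) : Set G) := by
        have h2 : (zpowers a').map H.subtype = zpowers a := by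
          rw [MonoidHom.map_zpowers]; rfl
        rw [← h2]
        exact le_normalizer_map H.subtype (mem_map_of_mem _ n.2)
      have h3 := normalizer_le_normalizer_centralizer h1
      rwa [zpowers_eq_closure, centralizer_closure] at h3
    have hnorm : f n ∈ normalizer (Cfsg.centralizerPPrimeCore p a : Set G) :=
      map_subtype_normal_of_characteristic hn
    show f (n * d * n⁻¹) ∈ Cfsg.centralizerPPrimeCore p a
    rw [map_mul, map_mul, map_inv]
    exact (mem_normalizer_iff.mp hnorm (f d)).mp hd
  intro x hx
  obtain ⟨hxa, hxb⟩ := hx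
  have hxN : (⟨x, hxb⟩ : H) ∈ N := centralizer_le_normalizer _ (by
    rw [zpowers_eq_closure, centralizer_closure, mem_centralizer_singleton_iff]
    exact Subtype.ext (mem_centralizer_singleton_iff.mp (centralizerPPrimeCore_le a hxa)))
  have h1 : (⟨⟨x, hxb⟩, hxN⟩ : N) ∈ Cfsg.pPrimeCore p ↥N :=
    Solvable.Cores.le_pPrimeCore hDcard hxa
  have h2 := (normalizer_of_pLayer_eq_bot hL hP).2 (mem_map_of_mem N.subtype h1)
  exact mem_map_of_mem H.subtype h2

theorem pLayer_eq_bot_of_isSolvable [Group.IsSolvable G] : Cfsg.pLayer p G = ⊥ := by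
  rw [pLayer_eq_bot_iff, layer_eq_bot_iff]
  intro L hL
  exact IsComponent.not_isSolvable hL inferInstance

end CfsgLib.Components.Signalizer
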