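import Cfsg.Agent.Lib.Components.SFT.Complete
import Cfsg.Agent.Lib.Components.Signalizer.Balance
import Cfsg.Agent.Lib.Involution.EmbeddedRank

/-!
Equivariant solvable signalizer functors on groups with a connected reduced rank-two graph.
-/

set_option autoImplicit false
set_option linter.style.haveILetI false
set_option linter.unusedSectionVars false
set_option maxHeartbeats 400000

namespace CfsgLib.Components.Signalizer

open Subgroup CfsgLib.Components.SFT CfsgLib.Involution

variable {G : Type*} [Group G] [Finite G] {p : ℕ} [hp : Fact p.Prime]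

/-- Two commuting elementary abelian `p`-subgroups generate an elementary abelian subgroup. -/
theorem elementary_sup {E F : Subgroup G} (hE : Cfsg.IsElementaryAbelian p E)
    (hF : Cfsg.IsElementaryAbelian p F) (h : F ≤ centralizer (E : Set G)) :
    Cfsg.IsElementaryAbelian p (E ⊔ F) := by
  have hn : F ≤ normalizer (E : Set G) := h.trans (centralizer_le_normalizer _)
  have hc : ∀ e ∈ E, ∀ f ∈ F, Commute e f := fun e he f hf => mem_centralizer_iff.1 (h hf) e he
  refine ⟨⟨⟨fun x y => Subtype.ext ?_⟩⟩, fun x hx => ?_⟩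
  · obtain ⟨e, he, f, hf, hx⟩ := (Coprime.mem_sup_of_le_normalizer hn).mp x.2
    obtain ⟨e', he', f', hf', hy⟩ := (Coprime.mem_sup_of_le_normalizer hn).mp y.2
    show (x : G) * y = y * x
    rw [← hx, ← hy]
    have c1 : Commute e e' := commute_of_mem hE he he'
    have c2 : Commute f f' := commute_of_mem hF hf hf'
    exact ((c1.mul_right (hc e he f' hf')).mul_left ((hc e' he' f hf).symm.mul_right c2)).eq
  · obtain ⟨e, he, f, hf, rfl⟩ := (Coprime.mem_sup_of_le_normalizer hn).mp hx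
    rw [(hc e he f hf).mul_pow, hE.2 e he, hF.2 f hf, one_mul]

theorem elementary_zpowers {a : G} (ha : orderOf a = p) :
    Cfsg.IsElementaryAbelian p (zpowers a) := by
  refine ⟨inferInstance, fun x hx => ?_⟩
  obtain ⟨n, rfl⟩ := mem_zpowers_iff.1 hx
  rw [← zpow_natCast, ← zpow_mul, mul_comm, zpow_mul, zpow_natCast, ← ha, pow_orderOf_eq_one,
    one_zpow]

/-- `a` has order `p` and its centraliser rank at least three. -/
def Good (p : ℕ) (a : G) : Prop :=
  orderOf a = p ∧ ¬ Cfsg.PRankLE p 2 ↥(centralizer ({a} : Set G))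

/-- A centraliser of rank three contains an elementary subgroup of order at least `p ^ 3` above
any given central elementary subgroup. -/
theorem exists_big {E : Subgroup G} (hE : Cfsg.IsElementaryAbelian p E)
    (h : ¬ Cfsg.PRankLE p 2 ↥(centralizer (E : Set G))) :
    ∃ A, E ≤ A ∧ Cfsg.IsElementaryAbelian p A ∧ p ^ 3 ≤ Nat.card A := by
  rw [EmbeddedRank.prankLE_iff] at h
  push Not at h
  obtain ⟨F, hFC, hFc, hFp, hF⟩ := h
  refine ⟨E ⊔ F, le_sup_left, elementary_sup hE ⟨hFc, hFp⟩ hFC, ?_⟩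
  obtain ⟨k, hk⟩ := (isPGroup_of_elementary (A := F) ⟨hFc, hFp⟩).exists_card_eq
  rw [hk] at hF
  have h3 : 3 ≤ k := (Nat.pow_lt_pow_iff_right hp.out.one_lt).1 hF
  exact (Nat.pow_le_pow_right hp.out.pos h3).trans (hk ▸ card_le_of_le le_sup_right)

theorem prankLE_of_big {A K : Subgroup G} (hA : Cfsg.IsElementaryAbelian p A)
    (hA3 : p ^ 3 ≤ Nat.card A) (hAK : A ≤ K) : ¬ Cfsg.PRankLE p 2 ↥K := fun h => by
  have h1 := hA3.trans ((EmbeddedRank.prankLE_iff K).1 h A hAK hA.1 hA.2)
  exact absurd h1 (not_le.mpr (Nat.pow_lt_pow_right hp.out.one_lt (by norm_num)))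

theorem good_of_mem_big {A : Subgroup G} (hA : Cfsg.IsElementaryAbelian p A)
    (hA3 : p ^ 3 ≤ Nat.card A) {a : G} (ha : a ∈ A) (ha1 : a ≠ 1) : Good p a :=
  ⟨orderOf_eq_prime (hA.2 a ha) ha1, prankLE_of_big hA hA3 (le_centralizer_singleton hA ha)⟩

theorem isVertex_of_big {A : Subgroup G} (hA : Cfsg.IsElementaryAbelian p A)
    (hA3 : p ^ 3 ≤ Nat.card A) : Cfsg.IsRankGraphVertex p 2 A :=
  ⟨hA, (Nat.pow_le_pow_right hp.out.pos (by norm_num)).trans hA3, prankLE_of_big hA hA3 fun x hx =>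
    mem_centralizer_iff.2 fun y hy => commute_of_mem hA hy hx⟩

variable (θ : G → Subgroup G)

/-- The join of the values on a subgroup. -/
abbrev vertexClosure (E : Subgroup G) : Subgroup G :=
  ⨆ e : {e : G // e ∈ E ∧ e ≠ 1}, θ (e : G)

variable {θ}

section

variable (hC : ∀ a : G, Good p a → θ a ≤ centralizer ({a} : Set G) ∧ ¬ p ∣ Nat.card ↥(θ a) ∧
  Group.IsSolvable ↥(θ a))
variable (heq : ∀ a g : G, Good p a → θ (g * a * g⁻¹) = (θ a).map (MulAut.conj g).toMonoidHom)
variable (hbal : ∀ a b : G, Good p a → Good p b → a * b = b * a →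
  θ a ⊓ centralizer {b} ≤ θ b)
include hC heq hbal

theorem functor_of_big {A : Subgroup G} (hA : Cfsg.IsElementaryAbelian p A)
    (hA3 : p ^ 3 ≤ Nat.card A) : Cfsg.IsSolvableSignalizerFunctor p A θ := by
  have hg := fun {a : G} (ha : a ∈ A) (ha1 : a ≠ 1) => good_of_mem_big hA hA3 ha ha1
  refine ⟨⟨fun a ha ha1 => (hC a (hg ha ha1)).1, fun a ha ha1 => (hC a (hg ha ha1)).2.1,
    fun a ha ha1 b hb x hx => ?_, fun a ha ha1 b hb hb1 =>
      hbal a b (hg ha ha1) (hg hb hb1) (commute_of_mem hA ha hb)⟩,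
    fun a ha ha1 => (hC a (hg ha ha1)).2.2⟩
  have h1 := heq a b (hg ha ha1)
  rw [commute_of_mem hA hb ha, mul_inv_cancel_right] at h1
  rw [h1]
  exact ⟨x, hx, rfl⟩

theorem vertexClosure_eq {E A : Subgroup G} (hA : Cfsg.IsElementaryAbelian p A)
    (hA3 : p ^ 3 ≤ Nat.card A) (hEA : E ≤ A) (hE2 : p ^ 2 ≤ Nat.card E) :
    vertexClosure θ E = vertexClosure θ A := by
  have hθ := functor_of_big hC heq hbal hA hA3
  refine le_antisymm (iSup_le fun e => le_iSup (fun a : {a : G // a ∈ A ∧ a ≠ 1} => θ (a : G))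
    ⟨e, hEA e.2.1, e.2.2⟩) (iSup_le fun a => ?_)
  have hm := theta_member hθ a.2.1 a.2.2
  refine (le_iSup_centralizer_relIndex hA hEA (exists_ne_one_of_card hE2 (by norm_num)) hm.2.1
    (member_le_normalizer hm)).trans (iSup_le fun D => ?_)
  have hDne : (D : Subgroup G) ≠ ⊥ := by
    intro hb
    have h1 := Coprime.card_mul_relIndex' D.2.1
    rw [D.2.2, hb, Subgroup.card_bot, one_mul] at h1
    have h2 : p ^ 1 < p ^ 2 := Nat.pow_lt_pow_right hp.out.one_lt (by norm_num)
    rw [pow_one] at h2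
    omega
  obtain ⟨x, hxD, hx1⟩ := (D : Subgroup G).bot_or_exists_ne_one.resolve_left hDne
  have hxE : x ∈ E := D.2.1 hxD
  exact ((inf_le_inf_left _ (centralizer_le (Set.singleton_subset_iff.2 hxD))).trans
    (hm.2.2.2 x (hEA hxE) hx1)).trans
      (le_iSup (fun e : {e : G // e ∈ E ∧ e ≠ 1} => θ (e : G)) ⟨x, hxE, hx1⟩)

theorem vertexClosure_adj {E F : Subgroup G} (hE : Cfsg.IsRankGraphVertex p 2 E)
    (hF : Cfsg.IsRankGraphVertex p 2 F) (hc : ∀ a ∈ E, ∀ b ∈ F, a * b = b * a) :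
    vertexClosure θ E = vertexClosure θ F := by
  have hFE : F ≤ centralizer (E : Set G) := fun f hf => mem_centralizer_iff.2 fun e he => hc e he f hf
  have hsup := elementary_sup hE.1 hF.1 hFE
  by_cases h3 : p ^ 3 ≤ Nat.card ↥(E ⊔ F)
  · rw [vertexClosure_eq hC heq hbal hsup h3 le_sup_left hE.2.1,
      vertexClosure_eq hC heq hbal hsup h3 le_sup_right hF.2.1]
  · obtain ⟨k, hk⟩ := (isPGroup_of_elementary hsup).exists_card_eq
    rw [hk] at h3
    have hk2 : p ^ k ≤ p ^ 2 := Nat.pow_le_pow_right hp.out.pos (by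
      by_contra hlt
      exact h3 (Nat.pow_le_pow_right hp.out.pos (by omega)))
    have e1 : E = E ⊔ F := eq_of_le_of_card_ge le_sup_left (hk ▸ hk2.trans hE.2.1)
    have e2 : F = E ⊔ F := eq_of_le_of_card_ge le_sup_right (hk ▸ hk2.trans hF.2.1)
    rw [e1.trans e2.symm]

theorem eq_bot (hO : Cfsg.pPrimeCore p G = ⊥) (hconn : Cfsg.IsRankGraphConnected p 2 G) {a : G}
    (ha : Good p a) : θ a = ⊥ := by
  have hza := elementary_zpowers ha.1
  obtain ⟨A, haA, hA, hA3⟩ := exists_big hza (by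
    rw [zpowers_eq_closure, centralizer_closure]; exact ha.2)
  have haA' : a ∈ A := haA (mem_zpowers a)
  have ha1 : a ≠ 1 := fun h => hp.out.one_lt.ne (by rw [← ha.1, h, orderOf_one])
  set W := vertexClosure θ A with hW
  have hθ := functor_of_big hC heq hbal hA hA3
  obtain ⟨hWm, -⟩ := solvable_complete hA hA3 hθ
  have hall : ∀ E, Cfsg.IsRankGraphVertex p 2 E → vertexClosure θ E = W := by
    intro E hE
    have hpath := hconn A E (isVertex_of_big hA hA3) hE
    induction hpath with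
    | refl => rfl
    | tail _ h ih => exact (vertexClosure_adj hC heq hbal h.1 h.2.1 h.2.2).symm.trans (ih h.1)
  haveI hn : W.Normal := by
    refine ⟨fun w hw g => ?_⟩
    set A' := A.map (MulAut.conj g).toMonoidHom with hA'
    have hA'e : Cfsg.IsElementaryAbelian p A' := by
      refine ⟨⟨⟨?_⟩⟩, ?_⟩
      · rintro ⟨_, x, hx, rfl⟩ ⟨_, y, hy, rfl⟩
        exact Subtype.ext (by
          simp only [Subgroup.coe_mul]
          rw [← map_mul, ← map_mul, commute_of_mem hA hx hy])
      · rintro _ ⟨x, hx, rfl⟩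
        rw [← map_pow, hA.2 x hx, map_one]
    have hA'3 : p ^ 3 ≤ Nat.card A' := by
      rw [hA', card_map_of_injective (MulAut.conj g).injective]; exact hA3
    have h1 : W.map (MulAut.conj g).toMonoidHom ≤ vertexClosure θ A' := by
      rw [hW, Subgroup.map_iSup]
      refine iSup_le fun e => ?_
      rw [← heq e g (good_of_mem_big hA hA3 e.2.1 e.2.2)]
      exact le_iSup (fun x : {x : G // x ∈ A' ∧ x ≠ 1} => θ (x : G))
        ⟨g * e * g⁻¹, ⟨e, e.2.1, rfl⟩, fun h => e.2.2 (by simpa using h)⟩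
    rw [hall A' (isVertex_of_big hA'e hA'3)] at h1
    exact h1 ⟨w, hw, rfl⟩
  have hWO : W ≤ Cfsg.pPrimeCore p G :=
    Solvable.Cores.le_pPrimeCore ((hp.out.coprime_iff_not_dvd.mpr hWm.2.1).symm)
  rw [hO] at hWO
  exact le_bot_iff.mp ((le_iSup (fun x : {x : G // x ∈ A ∧ x ≠ 1} => θ (x : G)) ⟨a, haA', ha1⟩).trans hWO)

end

theorem map_conj_core (a g : G) :
    Cfsg.centralizerPPrimeCore p (g * a * g⁻¹) =
      (Cfsg.centralizerPPrimeCore p a).map (MulAut.conj g).toMonoidHom := by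
  have key : ∀ a g : G, (Cfsg.centralizerPPrimeCore p a).map (MulAut.conj g).toMonoidHom ≤
      Cfsg.centralizerPPrimeCore p (g * a * g⁻¹) := by
    intro a g
    set C := centralizer ({g * a * g⁻¹} : Set G) with hCdef
    set D := (Cfsg.centralizerPPrimeCore p a).map (MulAut.conj g).toMonoidHom with hD
    have hback : ∀ {c : G}, c ∈ C → g⁻¹ * c * g ∈ centralizer ({a} : Set G) := fun {c} hc => by
      refine mem_centralizer_singleton_iff.2 ?_
      have h := mem_centralizer_singleton_iff.1 hc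
      calc g⁻¹ * c * g * a = g⁻¹ * (c * (g * a * g⁻¹)) * g := by group
        _ = g⁻¹ * (g * a * g⁻¹ * c) * g := by rw [h]
        _ = a * (g⁻¹ * c * g) := by group
    have hDC : D ≤ C := by
      rintro _ ⟨x, hx, rfl⟩
      have h := mem_centralizer_singleton_iff.1 (centralizerPPrimeCore_le a hx)
      refine mem_centralizer_singleton_iff.2 ?_
      simp only [MulEquiv.coe_toMonoidHom, MulAut.conj_apply]
      calc g * x * g⁻¹ * (g * a * g⁻¹) = g * (x * a) * g⁻¹ := by group
        _ = g * (a * x) * g⁻¹ := by rw [h]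
        _ = _ := by group
    haveI : (D.subgroupOf C).Normal := by
      refine ⟨fun x hx c => ?_⟩
      obtain ⟨y, hy, hyx⟩ := (mem_subgroupOf.mp hx : (x : G) ∈ D)
      refine mem_subgroupOf.mpr ⟨(g⁻¹ * c * g) * y * (g⁻¹ * c * g)⁻¹,
        (mem_normalizer_iff.mp (centralizer_le_normalizer_core a (hback c.2)) y).mp hy, ?_⟩
      simp only [MulEquiv.coe_toMonoidHom, MulAut.conj_apply] at hyx ⊢
      simp only [Subgroup.coe_mul, InvMemClass.coe_inv, ← hyx]
      group
    have hle : D.subgroupOf C ≤ Cfsg.pPrimeCore p ↥C := Solvable.Cores.le_pPrimeCore (by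
      rw [Nat.card_congr (subgroupOfEquivOfLe hDC).toEquiv, hD,
        card_map_of_injective (MulAut.conj g).injective]
      exact (hp.out.coprime_iff_not_dvd.mpr (not_dvd_centralizerPPrimeCore a)).symm)
    exact fun x hx => ⟨⟨x, hDC hx⟩, hle hx, rfl⟩
  refine le_antisymm (fun x hx => ⟨g⁻¹ * x * g, ?_, by simp [mul_assoc]⟩) (key a g)
  have h := key (g * a * g⁻¹) g⁻¹ ⟨x, hx, rfl⟩
  rw [show g⁻¹ * (g * a * g⁻¹) * g⁻¹⁻¹ = a by group] at h
  simpa [mul_assoc] using h

/-- All centralisers `p`-constrained with solvable cores: the cores are trivial. -/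
theorem fittingStar_eq_pCore (hO : Cfsg.pPrimeCore p G = ⊥) (hconn : Cfsg.IsRankGraphConnected p 2 G)
    (hL : ∀ a : G, Good p a → Cfsg.pLayer p ↥(centralizer ({a} : Set G)) = ⊥ ∧
      Group.IsSolvable ↥(Cfsg.centralizerPPrimeCore p a)) {a : G} (ha : Good p a) :
    Cfsg.generalizedFittingSubgroup ↥(centralizer ({a} : Set G)) =
      Cfsg.pCore p ↥(centralizer ({a} : Set G)) := by
  have h0 : Cfsg.centralizerPPrimeCore p a = ⊥ :=
    eq_bot (θ := Cfsg.centralizerPPrimeCore p)
      (fun b hb => ⟨centralizerPPrimeCore_le b, not_dvd_centralizerPPrimeCore b, (hL b hb).2⟩)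
      (fun b g _ => map_conj_core b g)
      (fun b c hb hc hbc => core_inf_centralizer_le hbc hb.1 (hL c hc).1) hO hconn ha
  set C := centralizer ({a} : Set G) with hC
  have h1 : Cfsg.pPrimeCore p ↥C = ⊥ := by
    rw [Cfsg.centralizerPPrimeCore, Subgroup.map_eq_bot_iff] at h0
    rw [← le_bot_iff]
    exact h0.trans (le_of_eq (C.ker_subtype))
  have h2 : Cfsg.layer ↥C = ⊥ := by
    refine layer_eq_bot_iff.mpr fun L hL' => ?_
    have hLne : L ≠ ⊥ := fun h => by
      refine IsComponent.not_isSolvable hL' ?_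
      rw [h]; infer_instance
    have hpc := IsComponent.isPComponent (p := p) hL' (fun h => hLne (le_bot_iff.mp (h1 ▸ h)))
    have := IsPComponent.le_pLayer hpc
    rw [(hL a ha).1] at this
    exact hLne (le_bot_iff.mp this)
  rw [Cfsg.generalizedFittingSubgroup, h2, Solvable.Cores.fittingSubgroup_eq_pCore p h1]
  simp

end CfsgLib.Components.Signalizer
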