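import Cfsg.Agent.Lib.Components.Signalizer.Basic

/-!
The transitivity theorem for maximal `q`-subgroups in the family of a solvable signalizer functor.
-/

set_option autoImplicit false
set_option linter.style.haveILetI false
set_option linter.unusedSectionVars false

namespace CfsgLib.Components.Signalizer

open Subgroup

variable {G : Type*} [Group G] [Finite G] {p : ℕ} [hp : Fact p.Prime] {A : Subgroup G}
  {θ : G → Subgroup G} {q : ℕ} [hq : Fact q.Prime]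

/-- Some `θ a` contributes to both normalisers (the key geometric step). -/
theorem exists_common_element (hA : Cfsg.IsElementaryAbelian p A) (hA3 : p ^ 3 ≤ Nat.card A)
    (hqp : q ≠ p) {Q₁ Q₂ : Subgroup G} (h₁ : IsPGroup q Q₁) (h₂ : IsPGroup q Q₂)
    (hA₁ : A ≤ normalizer (Q₁ : Set G)) (hA₂ : A ≤ normalizer (Q₂ : Set G))
    (hD₁ : Q₁ ⊓ Q₂ ≠ Q₁) (hD₂ : Q₁ ⊓ Q₂ ≠ Q₂) :
    ∃ a ∈ A, a ≠ 1 ∧
      ¬ (normalizer ((Q₁ ⊓ Q₂ : Subgroup G) : Set G) ⊓ Q₁ ⊓ centralizer {a} ≤ Q₁ ⊓ Q₂) ∧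
      ¬ (normalizer ((Q₁ ⊓ Q₂ : Subgroup G) : Set G) ⊓ Q₂ ⊓ centralizer {a} ≤ Q₁ ⊓ Q₂) := by
  set D := Q₁ ⊓ Q₂ with hD
  have hAD : A ≤ normalizer (D : Set G) := (le_inf hA₁ hA₂).trans inf_normalizer_le_normalizer_inf
  have key : ∀ Q : Subgroup G, IsPGroup q Q → A ≤ normalizer (Q : Set G) → D < Q →
      ∃ B : Subgroup G, B ≤ A ∧ B.relIndex A ≤ p ∧
        ¬ (normalizer (D : Set G) ⊓ Q ⊓ centralizer (B : Set G) ≤ D) := by
    intro Q hQ hAQ hlt
    set N := normalizer (D : Set G) ⊓ Q with hN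
    have hAN : A ≤ normalizer (N : Set G) :=
      (le_inf (hAD.trans Subgroup.le_normalizer) hAQ).trans inf_normalizer_le_normalizer_inf
    have hNp : ¬ p ∣ Nat.card N := by
      obtain ⟨k, hk⟩ := (hQ.to_le (inf_le_right : N ≤ Q)).exists_card_eq
      rw [hk]
      exact fun hd => hqp ((Nat.prime_dvd_prime_iff_eq hp.out hq.out).mp
        (hp.out.dvd_of_dvd_pow hd)).symm
    by_contra hcon
    push Not at hcon
    have h := (le_iSup_centralizer_hyperplanes hA le_rfl hNp hAN).trans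
      (iSup_le fun B => hcon B.1 B.2.1 B.2.2)
    have h' := Coprime.lt_normalizer_inf_of_lt hQ hlt
    rw [inf_comm, ← hN] at h'
    exact h'.not_ge h
  obtain ⟨B₁, hB₁, hi₁, hn₁⟩ := key Q₁ h₁ hA₁ (lt_of_le_of_ne inf_le_left hD₁)
  obtain ⟨B₂, hB₂, hi₂, hn₂⟩ := key Q₂ h₂ hA₂ (lt_of_le_of_ne inf_le_right hD₂)
  obtain ⟨a, ha, ha1, haB₁, haB₂⟩ := exists_nontrivial_inf hA hA3 hB₁ hB₂ hi₁ hi₂
  exact ⟨a, ha, ha1,
    fun h => hn₁ ((inf_le_inf_left _ (centralizer_le (Set.singleton_subset_iff.mpr haB₁))).trans h),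
    fun h => hn₂ ((inf_le_inf_left _ (centralizer_le (Set.singleton_subset_iff.mpr haB₂))).trans h)⟩

theorem isPGroup_sup {D S : Subgroup G} (hD : IsPGroup q D) (hS : IsPGroup q S)
    (hn : S ≤ normalizer (D : Set G)) : IsPGroup q ↥(D ⊔ S) :=
  hD.to_sup_of_normal_left' hS hn

theorem exists_maximal_member {R : Subgroup G} (hR : R ∈ Cfsg.signalizerFamily p A θ)
    (hRq : IsPGroup q R) : ∃ M : Subgroup G, R ≤ M ∧ M ∈ Cfsg.signalizerFamily p A θ ∧
      IsPGroup q M ∧ ∀ T ∈ Cfsg.signalizerFamily p A θ, IsPGroup q T → M ≤ T → T = M := by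
  obtain ⟨M, hRM, hM⟩ := Finite.exists_le_maximal
    (p := fun M : Subgroup G => M ∈ Cfsg.signalizerFamily p A θ ∧ IsPGroup q M) ⟨hR, hRq⟩
  exact ⟨M, hRM, hM.prop.1, hM.prop.2, fun T hT hTq hle =>
    le_antisymm (hM.le_of_ge ⟨hT, hTq⟩ hle) hle⟩

theorem q_ne_p_of_member {Q : Subgroup G} (hQ : Q ∈ Cfsg.signalizerFamily p A θ)
    (hQq : IsPGroup q Q) (hne : Q ≠ ⊥) : q ≠ p := by
  rintro rfl
  obtain ⟨k, hk⟩ := hQq.exists_card_eq
  refine hQ.2.1 (hk ▸ dvd_pow_self q ?_)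
  rintro rfl
  exact hne (card_eq_one.mp (by simpa using hk))

/-- Transitivity theorem. -/
theorem exists_conj_maximal (hA : Cfsg.IsElementaryAbelian p A) (hA3 : p ^ 3 ≤ Nat.card A)
    (hθ : Cfsg.IsSolvableSignalizerFunctor p A θ) {Q₁ Q₂ : Subgroup G}
    (hQ₁W : Q₁ ∈ Cfsg.signalizerFamily p A θ) (hQ₁q : IsPGroup q Q₁)
    (hQ₁max : ∀ R ∈ Cfsg.signalizerFamily p A θ, IsPGroup q R → Q₁ ≤ R → R = Q₁)
    (hQ₂W : Q₂ ∈ Cfsg.signalizerFamily p A θ) (hQ₂q : IsPGroup q Q₂)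
    (hQ₂max : ∀ R ∈ Cfsg.signalizerFamily p A θ, IsPGroup q R → Q₂ ≤ R → R = Q₂) :
    ∃ c ∈ Cfsg.signalizerInf A θ, Q₁.map (MulAut.conj c).toMonoidHom = Q₂ := by
  induction hn : Nat.card G - Nat.card ↥(Q₁ ⊓ Q₂) using Nat.strong_induction_on
    generalizing Q₁ Q₂ with
  | _ n ih =>
    set C := Cfsg.signalizerInf A θ with hC
    by_cases heq : Q₁ = Q₂
    · exact ⟨1, one_mem _, by rw [heq]; ext; simp⟩
    have hD1 : Q₁ ⊓ Q₂ ≠ Q₁ := fun e =>
      heq (hQ₁max Q₂ hQ₂W hQ₂q (e ▸ inf_le_right)).symm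
    have hD2 : Q₁ ⊓ Q₂ ≠ Q₂ := fun e => heq (hQ₂max Q₁ hQ₁W hQ₁q (e ▸ inf_le_left))
    have hqp : q ≠ p := by
      refine q_ne_p_of_member hQ₁W hQ₁q ?_
      rintro rfl
      exact hD1 (bot_inf_eq _)
    obtain ⟨a, ha, ha1, hne₁, hne₂⟩ := exists_common_element hA hA3 hqp hQ₁q hQ₂q
      (member_le_normalizer hQ₁W) (member_le_normalizer hQ₂W) hD1 hD2
    set D := Q₁ ⊓ Q₂ with hD
    have hDW : D ∈ Cfsg.signalizerFamily p A θ := member_of_le hQ₁W inf_le_left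
      ((le_inf (member_le_normalizer hQ₁W) (member_le_normalizer hQ₂W)).trans
        inf_normalizer_le_normalizer_inf)
    have hDq : IsPGroup q D := hQ₁q.to_le inf_le_left
    set K := θ a ⊓ normalizer (D : Set G) with hK
    have hAK : A ≤ normalizer (K : Set G) :=
      (le_inf (le_normalizer_theta hθ.1 ha ha1)
        ((member_le_normalizer hDW).trans Subgroup.le_normalizer)).trans
        inf_normalizer_le_normalizer_inf
    have hKW : K ∈ Cfsg.signalizerFamily p A θ :=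
      member_of_le (theta_member hθ ha ha1) inf_le_left hAK
    have hcop := coprime_card hA hKW.2.1
    have hsol : Group.IsSolvable A ∨ Group.IsSolvable K := .inr hKW.1
    -- the two subgroups of `K`
    have hsub : ∀ Q : Subgroup G, Q ∈ Cfsg.signalizerFamily p A θ → IsPGroup q Q →
        ∃ P : Sylow q K, normalizer (D : Set G) ⊓ Q ⊓ centralizer {a} ≤
          (P : Subgroup K).map K.subtype ∧
          A ≤ normalizer (((P : Subgroup K).map K.subtype : Subgroup G) : Set G) := by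
      intro Q hQW hQq
      refine Coprime.exists_le_invariant_sylow hAK hcop hsol (fun x hx =>
        ⟨hQW.2.2.2 a ha ha1 ⟨hx.1.2, hx.2⟩, hx.1.1⟩) (hQq.to_le (inf_le_left.trans inf_le_right)) ?_
      exact le_normalizer_inf_centralizer_singleton hA
        ((le_inf ((member_le_normalizer hDW).trans Subgroup.le_normalizer)
          (member_le_normalizer hQW)).trans inf_normalizer_le_normalizer_inf) ha
    obtain ⟨P₁, hP₁, hP₁A⟩ := hsub Q₁ hQ₁W hQ₁q
    obtain ⟨P₂, hP₂, hP₂A⟩ := hsub Q₂ hQ₂W hQ₂q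
    obtain ⟨c, hc, hcP⟩ := Coprime.exists_centralizer_conj_sylow hAK hcop hsol P₁ P₂ hP₁A hP₂A
    have hcC : (c : G) ∈ C := member_inf_centralizer_le hKW le_rfl ⟨c.2, hc⟩
    have hR : ∀ P : Sylow q K,
        A ≤ normalizer (((P : Subgroup K).map K.subtype : Subgroup G) : Set G) →
        D ⊔ (P : Subgroup K).map K.subtype ∈ Cfsg.signalizerFamily p A θ ∧
          IsPGroup q ↥(D ⊔ (P : Subgroup K).map K.subtype) := by
      intro P hPA
      have hPK : (P : Subgroup K).map K.subtype ≤ K := map_subtype_le _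
      exact ⟨member_sup hA hDW (member_of_le hKW hPK hPA) (hPK.trans inf_le_right),
        isPGroup_sup hDq (P.isPGroup'.map _) (hPK.trans inf_le_right)⟩
    obtain ⟨R₁, hR₁le, hR₁W, hR₁q, hR₁max⟩ :=
      exists_maximal_member (hR P₁ hP₁A).1 (hR P₁ hP₁A).2
    obtain ⟨R₂, hR₂le, hR₂W, hR₂q, hR₂max⟩ :=
      exists_maximal_member (hR P₂ hP₂A).1 (hR P₂ hP₂A).2
    -- bigger intersections
    have hlt : ∀ U V : Subgroup G, D < U ⊓ V → Nat.card G - Nat.card ↥(U ⊓ V) < n := by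
      intro U V h
      have h1 : Nat.card D < Nat.card ↥(U ⊓ V) := lt_of_le_of_ne (card_le_of_le h.le)
        fun e => h.ne (eq_of_le_of_card_ge h.le e.ge)
      have h2 := Nat.le_of_dvd Nat.card_pos (card_subgroup_dvd_card (U ⊓ V))
      omega
    have hQR : ∀ (Q : Subgroup G) (P : Sylow q K) (R : Subgroup G), D ≤ Q →
        normalizer (D : Set G) ⊓ Q ⊓ centralizer {a} ≤ (P : Subgroup K).map K.subtype →
        ¬ (normalizer (D : Set G) ⊓ Q ⊓ centralizer {a} ≤ D) →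
        D ⊔ (P : Subgroup K).map K.subtype ≤ R → D < Q ⊓ R := by
      intro Q P R hDQ hle hn' hR'
      refine lt_of_le_not_ge (le_inf hDQ (le_sup_left.trans hR')) fun h => hn' ?_
      exact (le_inf (inf_le_left.trans inf_le_right) (hle.trans (le_sup_right.trans hR'))).trans h
    obtain ⟨c₁, hc₁, e₁⟩ := ih _ (hlt _ _ (hQR Q₁ P₁ R₁ inf_le_left hP₁ hne₁ hR₁le))
      hQ₁W hQ₁q hQ₁max hR₁W hR₁q hR₁max rfl
    obtain ⟨c₂, hc₂, e₂⟩ := ih _ (hlt _ _ (hQR Q₂ P₂ R₂ inf_le_right hP₂ hne₂ hR₂le))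
      hQ₂W hQ₂q hQ₂max hR₂W hR₂q hR₂max rfl
    -- the conjugate of `R₁`
    have hR₃W : R₁.map (MulAut.conj (c : G)).toMonoidHom ∈ Cfsg.signalizerFamily p A θ :=
      map_conj_member hθ.1 hR₁W hcC
    have hR₃max : ∀ R ∈ Cfsg.signalizerFamily p A θ, IsPGroup q R →
        R₁.map (MulAut.conj (c : G)).toMonoidHom ≤ R →
        R = R₁.map (MulAut.conj (c : G)).toMonoidHom := by
      intro R hRW hRq hle
      have h1 := hR₁max (R.map (MulAut.conj (c : G)⁻¹).toMonoidHom)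
        (map_conj_member hθ.1 hRW (inv_mem hcC)) (hRq.map _) (fun x hx =>
          ⟨_, hle ⟨x, hx, rfl⟩, by simp [mul_assoc]⟩)
      rw [← h1]
      ext x
      simp [Subgroup.mem_map, mul_assoc]
    have hle3 : D ⊔ (P₂ : Subgroup K).map K.subtype ≤ R₁.map (MulAut.conj (c : G)).toMonoidHom := by
      refine sup_le ?_ ?_
      · rw [← map_conj_le_of_le_normalizer (inf_le_right (a := θ a) c.2 : (c : G) ∈ normalizer (D : Set G))]
        exact map_mono (le_sup_left.trans hR₁le)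
      · rw [← hcP, Coprime.map_smul_sylow]
        exact map_mono (le_sup_right.trans hR₁le)
    obtain ⟨c₃, hc₃, e₃⟩ := ih _ (hlt _ _ (by
        exact lt_of_le_not_ge (le_inf (le_sup_left.trans hle3) (le_sup_left.trans hR₂le)) fun h' =>
          hne₂ (hP₂.trans ((le_inf (le_sup_right.trans hle3) (le_sup_right.trans hR₂le)).trans h'))))
      hR₃W (hR₁q.map _) hR₃max hR₂W hR₂q hR₂max rfl
    refine ⟨c₂⁻¹ * c₃ * (c : G) * c₁,
      mul_mem (mul_mem (mul_mem (inv_mem hc₂) hc₃) hcC) hc₁, ?_⟩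
    have e₂' : R₂.map (MulAut.conj c₂⁻¹).toMonoidHom = Q₂ := by
      rw [← e₂]
      ext x
      simp [Subgroup.mem_map, mul_assoc]
    rw [← e₂', ← e₃, ← e₁, map_map, map_map, map_map]
    congr 1
    ext x
    simp [mul_assoc]

end CfsgLib.Components.Signalizer
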